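import Cfsg.Agent.Lib.Involution.StrongEmb

/-!
# Strongly embedded subgroups: counting with midpoints, the flow lemma

For `H` strongly embedded every involution fixes exactly one coset of `H`. For cosets `a ≠ b` and an
involution `u` fixing `a`, conjugation of `u` is a bijection from the involutions exchanging `a`, `b`
to those fixing `b`; it restricts to every subgroup containing `u`. The two-point stabiliser is
transitive on the involutions fixing one of the points, so `C(u)` is transitive on every orbit of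
the point stabiliser.
-/

namespace Cfsg.Agent.Bender

open Cfsg.Agent.Involution
open Cfsg.Agent.Involution.Isolated (middle middle_conj middle_mul_self oddRoot)

variable {G : Type*} [Group G] {H : Subgroup G}

/-- The involutions fixing the coset `a`. -/
def fixInv (a : G ⧸ H) : Set G := {i | orderOf i = 2 ∧ i • a = a}

/-- The involutions exchanging the cosets `a` and `b`. -/
def swapInv (a b : G ⧸ H) : Set G := {i | orderOf i = 2 ∧ i • a = b}

theorem smul_coe_eq_self_iff {i g : G} : i • (g : G ⧸ H) = g ↔ g⁻¹ * i * g ∈ H := by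
  rw [MulAction.Quotient.smul_coe, smul_eq_mul, eq_comm, QuotientGroup.eq, mul_assoc]

theorem smul_smul_self {i : G} (hi : orderOf i = 2) (a : G ⧸ H) : i • i • a = a := by
  rw [smul_smul, StrongEmb.mul_self_of_orderOf hi, one_smul]

theorem swap_symm {i : G} {a b : G ⧸ H} (h : i ∈ swapInv a b) : i ∈ swapInv b a :=
  ⟨h.1, by rw [← h.2, smul_smul_self h.1]⟩

theorem swapInv_comm (a b : G ⧸ H) : swapInv a b = swapInv b a :=
  Set.ext fun _ => ⟨swap_symm, swap_symm⟩

theorem conj_mem_fixInv {g u : G} {a : G ⧸ H} (hu : u ∈ fixInv a) :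
    g * u * g⁻¹ ∈ fixInv (g • a) :=
  ⟨by rw [StrongEmb.orderOf_conj', hu.1],
    by rw [mul_smul, mul_smul, inv_smul_smul, hu.2]⟩

theorem middle_mem {Y : Subgroup G} {u v : G} (hu : u ∈ Y) (hv : v ∈ Y) : middle u v ∈ Y :=
  Y.mul_mem hu (Y.pow_mem (Y.mul_mem hu hv) _)

variable (hH : Cfsg.IsStronglyEmbedded H)
include hH

theorem eq_of_fixInv {i : G} {a b : G ⧸ H} (ha : i ∈ fixInv a) (hb : i ∈ fixInv b) : a = b := by
  induction a using QuotientGroup.induction_on with
  | _ x =>
    induction b using QuotientGroup.induction_on with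
    | _ y =>
      have hx := smul_coe_eq_self_iff.mp ha.2
      have hy := smul_coe_eq_self_iff.mp hb.2
      have ho : orderOf (x⁻¹ * i * x) = 2 := by
        have := StrongEmb.orderOf_conj' x⁻¹ i
        rwa [inv_inv, ha.1] at this
      have h : y⁻¹ * x ∈ H := StrongEmb.mem_of_conj_eq hH hx ho (y := y⁻¹ * i * y) (by group) hy
      exact QuotientGroup.eq.mpr (by simpa [mul_inv_rev] using H.inv_mem h)

theorem smul_eq_of_commute {u c : G} {a : G ⧸ H} (hu : u ∈ fixInv a) (hc : Commute c u) :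
    c • a = a := by
  refine eq_of_fixInv hH ?_ hu
  have := conj_mem_fixInv (g := c) hu
  rwa [hc.eq, mul_inv_cancel_right] at this

variable [Finite G]

theorem exists_fixInv (a : G ⧸ H) : (fixInv a).Nonempty := by
  induction a using QuotientGroup.induction_on with
  | _ g =>
    obtain ⟨x, hx, hx2⟩ := StrongEmb.exists_involution hH
    refine ⟨g * x * g⁻¹, by rw [StrongEmb.orderOf_conj', hx2], smul_coe_eq_self_iff.mpr ?_⟩
    simpa [mul_assoc] using hx

omit hH [Finite G] in
theorem ncard_fixInv (a : G ⧸ H) :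
    (fixInv a).ncard = Nat.card {t : G // orderOf t = 2 ∧ t ∈ H} := by
  induction a using QuotientGroup.induction_on with
  | _ g =>
    rw [← Nat.card_coe_set_eq]
    refine Nat.card_congr (Equiv.subtypeEquiv (MulAut.conj g⁻¹).toEquiv fun i => ?_)
    show orderOf i = 2 ∧ i • (g : G ⧸ H) = g ↔ orderOf (g⁻¹ * i * g⁻¹⁻¹) = 2 ∧ g⁻¹ * i * g⁻¹⁻¹ ∈ H
    rw [StrongEmb.orderOf_conj', inv_inv, smul_coe_eq_self_iff]

theorem ncard_swapInv {a b : G ⧸ H} (hab : a ≠ b) :
    (swapInv a b).ncard = Nat.card {t : G // orderOf t = 2 ∧ t ∈ H} := by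
  rw [← StrongEmb.card_swap hH a b hab, ← Nat.card_coe_set_eq]
  rfl

theorem odd_orderOf_mul {u v : G} {a b : G ⧸ H} (hu : u ∈ fixInv a) (hv : v ∈ fixInv b)
    (hab : a ≠ b) : Odd (orderOf (u * v)) := by
  induction a using QuotientGroup.induction_on with
  | _ g =>
    have h1 := smul_coe_eq_self_iff.mp hu.2
    have h2 : g⁻¹ * v * g ∉ H := fun h =>
      hab (eq_of_fixInv hH (i := v) ⟨hv.1, smul_coe_eq_self_iff.mpr h⟩ hv)
    have ho : ∀ x : G, orderOf (g⁻¹ * x * g) = orderOf x := fun x => by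
      have := StrongEmb.orderOf_conj' g⁻¹ x
      rwa [inv_inv] at this
    have := StrongEmb.odd_orderOf_mul hH h1 (by rw [ho, hu.1]) h2 (by rw [ho, hv.1])
    rwa [show g⁻¹ * u * g * (g⁻¹ * v * g) = g⁻¹ * (u * v) * g by group, ho] at this

/-- The middle of involutions fixing `a` and `b` exchanges `a` and `b` and conjugates one to the
other. -/
theorem middle_spec {u v : G} {a b : G ⧸ H} (hu : u ∈ fixInv a) (hv : v ∈ fixInv b)
    (hab : a ≠ b) : middle u v ∈ swapInv a b ∧ middle u v * u * middle u v = v := by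
  have hu' := StrongEmb.mul_self_of_orderOf hu.1
  have hv' := StrongEmb.mul_self_of_orderOf hv.1
  have hm := middle_conj hu' hv' (odd_orderOf_mul hH hu hv hab)
  have hm2 := middle_mul_self hu' hv'
  have hab' : middle u v • a = b := by
    refine eq_of_fixInv hH ?_ hv
    have := conj_mem_fixInv (g := middle u v) hu
    rwa [Isolated.inv_mul_self_eq hm2, hm] at this
  refine ⟨⟨orderOf_eq_prime_iff.mpr ⟨by rw [pow_two]; exact hm2, fun h => hab ?_⟩, hab'⟩, hm⟩
  rw [h, one_smul] at hab'
  exact hab'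

omit hH [Finite G] in
theorem conj_swap_mem {u w : G} {a b : G ⧸ H} (hu : u ∈ fixInv a) (hw : w ∈ swapInv a b) :
    w * u * w ∈ fixInv b := by
  have := conj_mem_fixInv (g := w) hu
  rwa [hw.2, StrongEmb.inv_eq_of_orderOf hw.1] at this

/-- Conjugation of `u ∈ fixInv a` is a bijection from the swappers to the involutions fixing `b`. -/
theorem bijOn_conj_swap {u : G} {a b : G ⧸ H} (hu : u ∈ fixInv a) (hab : a ≠ b) :
    Set.BijOn (fun w => w * u * w) (swapInv a b) (fixInv b) := by
  have hmaps : Set.MapsTo (fun w => w * u * w) (swapInv a b) (fixInv b) :=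
    fun w hw => conj_swap_mem hu hw
  have hsurj : Set.SurjOn (fun w => w * u * w) (swapInv a b) (fixInv b) :=
    fun v hv => ⟨middle u v, (middle_spec hH hu hv hab).1, (middle_spec hH hu hv hab).2⟩
  refine ⟨hmaps, ?_, hsurj⟩
  refine Set.injOn_of_ncard_image_eq ?_ (Set.toFinite _)
  rw [hsurj.image_eq_of_mapsTo hmaps, ncard_fixInv, ncard_swapInv hH hab]

theorem swap_eq_middle {u w : G} {a b : G ⧸ H} (hu : u ∈ fixInv a) (hw : w ∈ swapInv a b)
    (hab : a ≠ b) : w = middle u (w * u * w) :=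
  (bijOn_conj_swap hH hu hab).injOn hw (middle_spec hH hu (conj_swap_mem hu hw) hab).1
    (middle_spec hH hu (conj_swap_mem hu hw) hab).2.symm

theorem bijOn_conj_swap_inter {u : G} {a b : G ⧸ H} (Y : Subgroup G) (hu : u ∈ fixInv a)
    (huY : u ∈ Y) (hab : a ≠ b) :
    Set.BijOn (fun w => w * u * w) (swapInv a b ∩ Y) (fixInv b ∩ Y) :=
  ⟨fun _ hw => ⟨conj_swap_mem hu hw.1, Y.mul_mem (Y.mul_mem hw.2 huY) hw.2⟩,
    (bijOn_conj_swap hH hu hab).injOn.mono Set.inter_subset_left,
    fun v hv => ⟨middle u v, ⟨(middle_spec hH hu hv.1 hab).1, middle_mem huY hv.2⟩,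
      (middle_spec hH hu hv.1 hab).2⟩⟩

theorem ncard_swapInv_inter_eq {a b : G ⧸ H} (Y : Subgroup G) (hab : a ≠ b)
    (hne : (fixInv a ∩ (Y : Set G)).Nonempty) :
    (swapInv a b ∩ (Y : Set G)).ncard = (fixInv b ∩ (Y : Set G)).ncard := by
  obtain ⟨u, hu, huY⟩ := hne
  have h := bijOn_conj_swap_inter hH Y hu huY hab
  rw [← h.image_eq, Set.InjOn.ncard_image h.injOn]

/-- For every subgroup `Y` (for example the centraliser or the normaliser of a subgroup of the
two-point stabiliser): `pa * pb = pa * ps`. -/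
theorem ncard_mul_ncard {a b : G ⧸ H} (Y : Subgroup G) (hab : a ≠ b) :
    (fixInv a ∩ (Y : Set G)).ncard * (fixInv b ∩ (Y : Set G)).ncard =
      (fixInv a ∩ (Y : Set G)).ncard * (swapInv a b ∩ (Y : Set G)).ncard := by
  rcases (fixInv a ∩ (Y : Set G)).eq_empty_or_nonempty with h | h
  · rw [h, Set.ncard_empty, Nat.zero_mul, Nat.zero_mul]
  · rw [ncard_swapInv_inter_eq hH Y hab h]

theorem ncard_mul_ncard' {a b : G ⧸ H} (Y : Subgroup G) (hab : a ≠ b) :
    (fixInv a ∩ (Y : Set G)).ncard * (fixInv b ∩ (Y : Set G)).ncard =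
      (fixInv b ∩ (Y : Set G)).ncard * (swapInv a b ∩ (Y : Set G)).ncard := by
  rw [Nat.mul_comm, ncard_mul_ncard hH Y hab.symm, swapInv_comm b a]

/-- The three numbers are equal, or at most one of them is nonzero. -/
theorem ncard_trichotomy {a b : G ⧸ H} (Y : Subgroup G) (hab : a ≠ b) :
    ((fixInv a ∩ (Y : Set G)).ncard = (fixInv b ∩ (Y : Set G)).ncard ∧
        (fixInv b ∩ (Y : Set G)).ncard = (swapInv a b ∩ (Y : Set G)).ncard) ∨
      ((fixInv a ∩ (Y : Set G)).ncard = 0 ∧ (fixInv b ∩ (Y : Set G)).ncard = 0) ∨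
      ((fixInv a ∩ (Y : Set G)).ncard = 0 ∧ (swapInv a b ∩ (Y : Set G)).ncard = 0) ∨
      ((fixInv b ∩ (Y : Set G)).ncard = 0 ∧ (swapInv a b ∩ (Y : Set G)).ncard = 0) := by
  have h1 := ncard_mul_ncard hH Y hab
  have h2 := ncard_mul_ncard' hH Y hab
  generalize (fixInv a ∩ (Y : Set G)).ncard = x at h1 h2 ⊢
  generalize (fixInv b ∩ (Y : Set G)).ncard = y at h1 h2 ⊢
  generalize (swapInv a b ∩ (Y : Set G)).ncard = z at h1 h2 ⊢
  rcases Nat.eq_zero_or_pos x with hx | hx <;> rcases Nat.eq_zero_or_pos y with hy | hy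
  · exact .inr (.inl ⟨hx, hy⟩)
  · subst hx
    rw [Nat.zero_mul, eq_comm, Nat.mul_eq_zero] at h2
    exact .inr (.inr (.inl ⟨rfl, h2.resolve_left (by omega)⟩))
  · subst hy
    rw [Nat.mul_zero, eq_comm, Nat.mul_eq_zero] at h1
    exact .inr (.inr (.inr ⟨rfl, h1.resolve_left (by omega)⟩))
  · have e1 : y = z := Nat.eq_of_mul_eq_mul_left hx h1
    have e2 : x = z := Nat.eq_of_mul_eq_mul_left hy (by rw [Nat.mul_comm]; exact h2)
    exact .inl ⟨e2.trans e1.symm, e1⟩

/-- The two-point stabiliser is transitive on the involutions fixing the first point. -/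
theorem exists_stab_conj {u v : G} {a b : G ⧸ H} (hu : u ∈ fixInv a) (hv : v ∈ fixInv a)
    (hab : a ≠ b) :
    ∃ d ∈ MulAction.stabilizer G a ⊓ MulAction.stabilizer G b, d * u * d⁻¹ = v := by
  obtain ⟨x, hx⟩ := exists_fixInv hH b
  obtain ⟨⟨o1, s1⟩, e1⟩ := middle_spec hH hu hx hab
  obtain ⟨⟨o2, s2⟩, e2⟩ := middle_spec hH hv hx hab
  have t1 := (swap_symm (b := b) ⟨o1, s1⟩).2
  have t2 := (swap_symm (b := b) ⟨o2, s2⟩).2
  refine ⟨middle v x * middle u x, ⟨?_, ?_⟩, ?_⟩
  · show (_ * _) • a = a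
    rw [mul_smul, s1, t2]
  · show (_ * _) • b = b
    rw [mul_smul, t1, s2]
  · have h2 := StrongEmb.mul_self_of_orderOf o2
    rw [mul_inv_rev, StrongEmb.inv_eq_of_orderOf o1, StrongEmb.inv_eq_of_orderOf o2]
    calc middle v x * middle u x * u * (middle u x * middle v x)
        = middle v x * (middle u x * u * middle u x) * middle v x := by group
      _ = middle v x * (middle v x * v * middle v x) * middle v x := by rw [e1, e2]
      _ = v := by simp [mul_assoc, h2, ← mul_assoc (middle v x) (middle v x)]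

/-- The point stabiliser is `C(u) * D` for every involution `u` fixing the point and every
two-point stabiliser `D`. -/
theorem exists_factor {u g : G} {a b : G ⧸ H} (hu : u ∈ fixInv a) (hg : g • a = a)
    (hab : a ≠ b) :
    ∃ c, Commute c u ∧ ∃ d ∈ MulAction.stabilizer G a ⊓ MulAction.stabilizer G b, g = c * d := by
  have hu' : g⁻¹ * u * g ∈ fixInv a := by
    have := conj_mem_fixInv (g := g⁻¹) hu
    rwa [inv_inv, inv_smul_eq_iff.mpr hg.symm] at this
  obtain ⟨d, hd, hd'⟩ := exists_stab_conj hH hu hu' hab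
  refine ⟨g * d, ?_, d⁻¹, inv_mem hd, by group⟩
  show g * d * u = u * (g * d)
  calc g * d * u = g * (d * u * d⁻¹) * d := by group
    _ = u * (g * d) := by rw [hd']; group

/-- `C(u)` is transitive on every orbit of the stabiliser of its fixed point. -/
theorem orbit_centralizer {u : G} {a : G ⧸ H} (hu : u ∈ fixInv a) (b : G ⧸ H) :
    MulAction.orbit (Subgroup.centralizer ({u} : Set G)) b =
      MulAction.orbit (MulAction.stabilizer G a) b := by
  refine Set.Subset.antisymm ?_ ?_
  · rintro - ⟨⟨c, hc⟩, rfl⟩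
    exact ⟨⟨c, smul_eq_of_commute hH hu (Subgroup.mem_centralizer_singleton_iff.mp hc)⟩, rfl⟩
  · rintro - ⟨⟨g, hg⟩, rfl⟩
    by_cases hab : a = b
    · subst hab
      refine ⟨1, ?_⟩
      show (1 : G) • a = g • a
      rw [one_smul, show g • a = a from hg]
    obtain ⟨c, hc, d, hd, rfl⟩ := exists_factor hH hu hg hab
    refine ⟨⟨c, Subgroup.mem_centralizer_singleton_iff.mpr hc⟩, ?_⟩
    show c • b = (c * d) • b
    rw [mul_smul, show d • b = b from hd.2]

/-- `|D : C_D(u)| = |fixInv a|`. -/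
theorem relIndex_centralizer {u : G} {a b : G ⧸ H} (hu : u ∈ fixInv a) (hab : a ≠ b) :
    (Subgroup.centralizer ({u} : Set G)).relIndex
        (MulAction.stabilizer G a ⊓ MulAction.stabilizer G b) = (fixInv a).ncard := by
  set D := MulAction.stabilizer G a ⊓ MulAction.stabilizer G b with hD
  have key : ∀ d e : D, (d : G) * u * (d : G)⁻¹ = (e : G) * u * (e : G)⁻¹ ↔
      d⁻¹ * e ∈ (Subgroup.centralizer ({u} : Set G)).subgroupOf D := fun d e => by
    rw [Subgroup.mem_subgroupOf, Subgroup.coe_mul, Subgroup.coe_inv,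
      Subgroup.mem_centralizer_singleton_iff]
    constructor
    · intro h
      calc (d : G)⁻¹ * e * u = (d : G)⁻¹ * (e * u * (e : G)⁻¹) * e := by group
        _ = u * ((d : G)⁻¹ * e) := by rw [← h]; group
    · intro h
      calc (d : G) * u * (d : G)⁻¹ = d * (u * ((d : G)⁻¹ * e)) * (e : G)⁻¹ := by group
        _ = e * u * (e : G)⁻¹ := by rw [← h]; group
  rw [Subgroup.relIndex, Subgroup.index, ← Nat.card_coe_set_eq (fixInv a)]
  refine Nat.card_eq_of_bijective (fun q => Quotient.liftOn' q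
    (fun d : D => (⟨d * u * (d : G)⁻¹, ?_⟩ : fixInv a))
    fun d e h => Subtype.ext ((key d e).mpr (QuotientGroup.leftRel_apply.mp h))) ⟨?_, ?_⟩
  · have := conj_mem_fixInv (g := (d : G)) hu
    rwa [show (d : G) • a = a from d.2.1] at this
  · intro q q'
    induction q using QuotientGroup.induction_on with
    | _ d =>
      induction q' using QuotientGroup.induction_on with
      | _ e =>
        intro h
        exact QuotientGroup.eq.mpr ((key d e).mp (congrArg Subtype.val h))
  · rintro ⟨v, hv⟩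
    obtain ⟨d, hd, hd'⟩ := exists_stab_conj hH hu hv hab
    exact ⟨QuotientGroup.mk (⟨d, hd⟩ : D), Subtype.ext hd'⟩

end Cfsg.Agent.Bender
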