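import Cfsg.Agent.Lib.Involution.StrongEmb
import Cfsg.Agent.Lib.ZStar.Main
import Cfsg.Agent.Lib.Coprime.Generation
import Cfsg.Agent.Lib.PGroup.UniqueOrderP
import Cfsg.Agent.Lib.PCore.Basic
import Cfsg.Agent.Lib.LocalStructure.Basic

/-!
# Strongly embedded subgroups: rank one, and reduction to the faithful case

* without a four-group the Sylow 2-subgroups are cyclic or generalized quaternion, `G = O(G) H` and
  `O(H) ≤ O(G)`;
* with a four-group the core of `H` is `O(G)` and `H / O(G)` is strongly embedded with trivial core;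
* hence the dichotomy and `O(H) ≤ O(G)` follow from the faithful case with a four-group.
-/

set_option autoImplicit false
set_option linter.style.haveILetI false
set_option linter.unusedSectionVars false

namespace Cfsg.Agent.Bender

open Subgroup
open Cfsg.Agent.Involution

universe u

variable {G : Type u} [Group G] [Finite G] {H : Subgroup G}

/-- Two-transitivity on the cosets. -/
def TwoTrans (H : Subgroup G) : Prop :=
  ∀ g₁ g₂ : G, g₁ ∉ H → g₂ ∉ H → ∃ h ∈ H, g₂⁻¹ * (h * g₁) ∈ H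

theorem odd_inf_conj (hH : Cfsg.IsStronglyEmbedded H) {g : G} (hg : g ∉ H) {N : Subgroup G}
    (h₁ : N ≤ H) (h₂ : N ≤ H.map (MulAut.conj g).toMonoidHom) : Odd (Nat.card N) :=
  (hH.2.2 g hg).of_dvd_nat (Subgroup.card_dvd_of_le (le_inf h₁ h₂))

/-! ### Rank one -/

/-- Without a four-group the Sylow 2-subgroups are cyclic or generalized quaternion. -/
theorem sylow_shape (hrank : ∀ E : Subgroup G, ¬ IsKleinFour E) (S : Sylow 2 G) :
    IsCyclic S ∨ ∃ m : ℕ, 1 ≤ m ∧ Nonempty ((S : Subgroup G) ≃* QuaternionGroup (2 ^ m)) := by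
  haveI : Fact (Nat.Prime 2) := ⟨Nat.prime_two⟩
  by_cases htriv : (S : Subgroup G) = ⊥
  · left
    haveI : Subsingleton ↥(S : Subgroup G) := by rw [htriv]; infer_instance
    exact isCyclic_of_subsingleton
  haveI : Nontrivial ↥(S : Subgroup G) := (nontrivial_iff_ne_bot _).2 htriv
  haveI := S.2.center_nontrivial
  obtain ⟨z, hz2⟩ : ∃ z : Subgroup.center ↥(S : Subgroup G), orderOf z = 2 := by
    obtain ⟨k, hk, hc⟩ := (S.2.to_subgroup (Subgroup.center _)).nontrivial_iff_card.1 inferInstance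
    exact exists_prime_orderOf_dvd_card' 2 (hc ▸ dvd_pow_self 2 hk.ne')
  have hzG : orderOf ((z : ↥(S : Subgroup G)) : G) = 2 := by
    rw [Subgroup.orderOf_coe, Subgroup.orderOf_coe, hz2]
  have key : ∀ x : ↥(S : Subgroup G), orderOf x = 2 → x = z := fun x hx => by
    refine Subtype.ext (ZStar.eq_of_commute_of_no_kleinFour hrank (by rw [Subgroup.orderOf_coe, hx])
      hzG ?_)
    exact congrArg Subtype.val (Subgroup.mem_center_iff.1 z.2 x)
  have huniq : ∀ A B : Subgroup ↥(S : Subgroup G), Nat.card A = 2 → Nat.card B = 2 → A = B := by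
    suffices h : ∀ A : Subgroup ↥(S : Subgroup G), Nat.card A = 2 → A = zpowers (z : ↥(S : Subgroup G)) from
      fun A B hA hB => (h A hA).trans (h B hB).symm
    intro A hA
    obtain ⟨x, hx⟩ := exists_prime_orderOf_dvd_card' (G := A) 2 (dvd_of_eq hA.symm)
    have hxz := key x (by rw [Subgroup.orderOf_coe, hx])
    symm
    refine Subgroup.eq_of_le_of_card_ge (zpowers_le.2 (hxz ▸ x.2)) ?_
    rw [hA, Nat.card_zpowers, Subgroup.orderOf_coe, hz2]
  rcases PGroup.cyclic_or_quaternion_of_unique S.2 huniq with h | ⟨-, n, hn, -, he⟩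
  · exact Or.inl h
  · exact Or.inr ⟨n, hn, he⟩

/-- Without a four-group `G = O(G) H`. -/
theorem oddCore_sup_eq_top (hH : Cfsg.IsStronglyEmbedded H) (hrank : ∀ E : Subgroup G, ¬ IsKleinFour E) :
    Cfsg.oddCore G ⊔ H = ⊤ := by
  obtain ⟨z, hz, hz2⟩ := StrongEmb.exists_involution hH
  have hO := ZStar.commutator_mem_oddCore (ZStar.inZStar (ZStar.isolated_of_no_kleinFour hrank hz2))
  rw [eq_top_iff]
  intro g _
  set w := g * z * g⁻¹ with hw
  have hzz := StrongEmb.mul_self_of_orderOf hz2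
  have hw2 : orderOf w = 2 := by rw [hw, StrongEmb.orderOf_conj', hz2]
  have hr : z * w ∈ Cfsg.oddCore G := by
    have := hO g
    rwa [StrongEmb.inv_eq_of_orderOf hz2,
      show z * g * z * g⁻¹ = z * w by rw [hw]; simp only [mul_assoc]] at this
  have hodd : Odd (orderOf (z * w)) :=
    PCore.odd_card_oddCore.of_dvd_nat ((Cfsg.oddCore G).orderOf_dvd_natCard hr)
  have hd : Isolated.oddRoot (z * w) ∈ Cfsg.oddCore G := Subgroup.pow_mem _ hr _
  have hm := Isolated.middle_conj hzz (StrongEmb.mul_self_of_orderOf hw2) hodd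
  set m := Isolated.middle z w with hmdef
  have hm2 : m * m = 1 := Isolated.middle_mul_self hzz (StrongEmb.mul_self_of_orderOf hw2)
  have hgm : g⁻¹ * m ∈ H := by
    refine StrongEmb.mem_of_conj_eq hH hz hz2 ?_ hz
    calc g⁻¹ * m * z * (g⁻¹ * m)⁻¹ = g⁻¹ * (m * z * m⁻¹) * g := by group
      _ = z := by rw [Isolated.inv_mul_self_eq hm2, hm, hw]; group
  have e : g = m * (g⁻¹ * m)⁻¹ := by group
  rw [e]
  refine mul_mem ?_ (mem_sup_right (H.inv_mem hgm))
  exact mul_mem (mem_sup_right hz) (mem_sup_left hd)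

/-- If `G = O(G) H` then `O(H) ≤ O(G)`. -/
theorem oddCore_le_of_sup_eq_top (h : Cfsg.oddCore G ⊔ H = ⊤) :
    (Cfsg.oddCore ↥H).map H.subtype ≤ Cfsg.oddCore G := by
  set X := (Cfsg.oddCore ↥H).map H.subtype with hX
  set O := Cfsg.oddCore G with hO
  have hXH : H ≤ normalizer (X : Set G) := by
    apply (normal_subgroupOf_iff_le_normalizer (map_subtype_le _)).1
    show (((Cfsg.oddCore ↥H).map H.subtype).comap H.subtype).Normal
    rw [comap_map_eq_self_of_injective H.subtype_injective]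
    infer_instance
  haveI hn : (O ⊔ X).Normal := by
    rw [← normalizer_eq_top_iff, eq_top_iff, ← h]
    refine sup_le ((le_sup_left : O ≤ O ⊔ X).trans le_normalizer)
      (LocalStructure.le_normalizer_sup ?_ hXH)
    rw [normalizer_eq_top_iff.mpr (inferInstanceAs (Cfsg.oddCore G).Normal)]
    exact le_top
  refine (le_sup_right : X ≤ O ⊔ X).trans (PCore.le_oddCore ?_)
  have hdvd : Nat.card ↥(O ⊔ X) ∣ Nat.card O * Nat.card X := by
    have h1 : O.relIndex (O ⊔ X) ∣ Nat.card X := by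
      rw [relIndex_sup_left]; exact relIndex_dvd_card _ _
    rw [← relIndex_bot_left (O ⊔ X), ← relIndex_mul_relIndex _ _ _ bot_le (le_sup_left : O ≤ O ⊔ X),
      relIndex_bot_left]
    exact Nat.mul_dvd_mul_left _ h1
  refine (PCore.odd_card_oddCore.mul ?_).of_dvd_nat hdvd
  rw [hX, card_map_of_injective H.subtype_injective]
  exact PCore.odd_card_oddCore

/-! ### With a four-group -/

theorem exists_kleinFour_le (hH : Cfsg.IsStronglyEmbedded H) {E : Subgroup G} (hE : IsKleinFour E) :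
    ∃ E' : Subgroup G, IsKleinFour E' ∧ E' ≤ H := by
  haveI : Fact (Nat.Prime 2) := ⟨Nat.prime_two⟩
  haveI := hE
  obtain ⟨a, ha⟩ := exists_prime_orderOf_dvd_card' (G := E) 2 (by rw [IsKleinFour.card_four]; norm_num)
  obtain ⟨x, hx, hx2⟩ := StrongEmb.exists_involution hH
  have ha2 : orderOf (a : G) = 2 := by rw [Subgroup.orderOf_coe, ha]
  obtain ⟨g, hg⟩ := isConj_iff.1 (StrongEmb.isConj_involutions hH ha2 hx2)
  refine ⟨E.map (MulAut.conj g).toMonoidHom, ?_, ?_⟩
  · have e := E.equivMapOfInjective (MulAut.conj g).toMonoidHom (MulAut.conj g).injective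
    exact ⟨(Nat.card_congr e.toEquiv).symm.trans IsKleinFour.card_four,
      (Monoid.exponent_eq_of_mulEquiv e).symm.trans IsKleinFour.exponent_two⟩
  · rintro _ ⟨c, hc, rfl⟩
    have hcm : Commute (a : G) c := congrArg Subtype.val
      (mul_comm_of_exponent_two (G := E) IsKleinFour.exponent_two a ⟨c, hc⟩)
    refine StrongEmb.mem_of_commute hH hx hx2 ?_
    have := hcm.symm.map (MulAut.conj g).toMonoidHom
    rwa [show (MulAut.conj g).toMonoidHom (a : G) = x from hg] at this

/-- With a four-group `O(G) ≤ H`. -/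
theorem oddCore_le (hH : Cfsg.IsStronglyEmbedded H) {E : Subgroup G} (hE : IsKleinFour E) :
    Cfsg.oddCore G ≤ H := by
  obtain ⟨E, hE, hEH⟩ := exists_kleinFour_le hH hE
  haveI := hE
  haveI : IsMulCommutative E := ⟨⟨mul_comm_of_exponent_two IsKleinFour.exponent_two⟩⟩
  have h : Cfsg.oddCore G ⊓ H = Cfsg.oddCore G := by
    refine Coprime.eq_of_forall_centralizer_le (A := E) (fun hc => ?_) ?_ ?_ inf_le_left ?_
    · exact IsKleinFour.not_isCyclic hc
    · rw [normalizer_eq_top_iff.mpr (inferInstanceAs (Cfsg.oddCore G).Normal)]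
      exact le_top
    · rw [IsKleinFour.card_four, show (4 : ℕ) = 2 ^ 2 by norm_num]
      exact Nat.Coprime.pow_left 2 (Nat.coprime_two_left.2 PCore.odd_card_oddCore)
    · intro a ha ha1
      refine inf_le_inf_left _ fun c hc => ?_
      refine StrongEmb.mem_of_commute hH (hEH ha) (orderOf_eq_prime ?_ ha1)
        (Subgroup.mem_centralizer_singleton_iff.1 hc)
      have h2 := Monoid.pow_exponent_eq_one (⟨a, ha⟩ : E)
      rw [IsKleinFour.exponent_two] at h2
      exact congrArg Subtype.val h2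
  exact inf_eq_left.1 h

/-- With a four-group the core of `H` is `O(G)`. -/
theorem normalCore_eq (hH : Cfsg.IsStronglyEmbedded H) {E : Subgroup G} (hE : IsKleinFour E) :
    H.normalCore = Cfsg.oddCore G := by
  refine le_antisymm ?_ (Subgroup.normal_le_normalCore.2 (oddCore_le hH hE))
  obtain ⟨g, -, hg⟩ := SetLike.exists_of_lt (lt_top_iff_ne_top.mpr hH.1)
  refine PCore.le_oddCore (odd_inf_conj hH hg (normalCore_le H) fun x hx => ?_)
  refine ⟨g⁻¹ * x * g⁻¹⁻¹, normalCore_le H ((normalCore_normal H).conj_mem x hx g⁻¹), ?_⟩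
  show g * (g⁻¹ * x * g⁻¹⁻¹) * g⁻¹ = x
  group

theorem mem_map_mk'_iff {N : Subgroup G} [N.Normal] (hN : N ≤ H) {x : G} :
    (QuotientGroup.mk' N) x ∈ H.map (QuotientGroup.mk' N) ↔ x ∈ H := by
  rw [← Subgroup.mem_comap, Subgroup.comap_map_eq, QuotientGroup.ker_mk', sup_eq_left.2 hN]

/-- Strong embedding passes to quotients by normal subgroups of odd order contained in `H`. -/
theorem isStronglyEmbedded_quotient (hH : Cfsg.IsStronglyEmbedded H) (N : Subgroup G) [N.Normal]
    (hN : N ≤ H) (hodd : Odd (Nat.card N)) :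
    Cfsg.IsStronglyEmbedded (H.map (QuotientGroup.mk' N)) := by
  refine ⟨fun h => hH.1 ?_, ?_, ?_⟩
  · rw [eq_top_iff]
    exact fun x _ => (mem_map_mk'_iff hN).1 (h ▸ mem_top _)
  · obtain ⟨x, hx, hx2⟩ := StrongEmb.exists_involution hH
    have h1 : orderOf (QuotientGroup.mk' N x) = 2 := by
      refine orderOf_eq_prime (by rw [← map_pow, ← hx2, pow_orderOf_eq_one, map_one]) fun h => ?_
      have hxN : x ∈ N := (QuotientGroup.eq_one_iff x).1 h
      exact Nat.not_even_iff_odd.2 hodd (even_iff_two_dvd.2 (hx2 ▸ N.orderOf_dvd_natCard hxN))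
    exact even_iff_two_dvd.2 (h1 ▸ Subgroup.orderOf_dvd_natCard _ (mem_map_of_mem _ hx))
  · intro q hq
    obtain ⟨g, rfl⟩ := QuotientGroup.mk'_surjective N q
    have hg : g ∉ H := fun h => hq (mem_map_of_mem _ h)
    refine (hH.2.2 g hg).of_dvd_nat ?_
    refine dvd_trans (Subgroup.card_dvd_of_le ?_)
      (Subgroup.card_dvd_of_surjective _ ((QuotientGroup.mk' N).subgroupMap_surjective
        (H ⊓ H.map (MulAut.conj g).toMonoidHom)))
    rintro y ⟨hy1, z, hz, hzy⟩
    obtain ⟨z, hz', rfl⟩ := hz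
    refine ⟨g * z * g⁻¹, ⟨(mem_map_mk'_iff hN).1 ?_, z, hz', rfl⟩, ?_⟩
    · rw [map_mul, map_mul, map_inv]
      rw [← hzy] at hy1
      exact hy1
    · rw [map_mul, map_mul, map_inv]
      exact hzy

theorem exists_kleinFour_quotient {E : Subgroup G} (hE : IsKleinFour E) (N : Subgroup G) [N.Normal]
    (hodd : Odd (Nat.card N)) : ∃ E' : Subgroup (G ⧸ N), IsKleinFour E' := by
  haveI := hE
  have hinj : Function.Injective ((QuotientGroup.mk' N).comp E.subtype) := by
    rw [← MonoidHom.ker_eq_bot_iff, eq_bot_iff]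
    intro x hx
    rw [Subgroup.mem_bot]
    have hxN : (x : G) ∈ N := (QuotientGroup.eq_one_iff _).1 hx
    have h2 := Monoid.pow_exponent_eq_one x
    rw [IsKleinFour.exponent_two] at h2
    have hd : orderOf (x : G) ∣ 2 := by
      rw [Subgroup.orderOf_coe]; exact orderOf_dvd_of_pow_eq_one h2
    rcases (Nat.dvd_prime Nat.prime_two).1 hd with h | h
    · exact Subtype.ext (orderOf_eq_one_iff.1 h)
    · exact absurd (h ▸ N.orderOf_dvd_natCard hxN) fun h' =>
        Nat.not_even_iff_odd.2 hodd (even_iff_two_dvd.2 h')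
  have e := MonoidHom.ofInjective hinj
  exact ⟨_, ⟨(Nat.card_congr e.toEquiv).symm.trans IsKleinFour.card_four,
    (Monoid.exponent_eq_of_mulEquiv e).symm.trans IsKleinFour.exponent_two⟩⟩

/-- The quotient by `O(G)` is faithful, with a four-group. -/
theorem faithful_quotient (hH : Cfsg.IsStronglyEmbedded H) {E : Subgroup G} (hE : IsKleinFour E) :
    Cfsg.IsStronglyEmbedded (H.map (QuotientGroup.mk' (Cfsg.oddCore G))) ∧
      (H.map (QuotientGroup.mk' (Cfsg.oddCore G))).normalCore = ⊥ ∧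
      ∃ E' : Subgroup (G ⧸ Cfsg.oddCore G), IsKleinFour E' := by
  refine ⟨isStronglyEmbedded_quotient hH _ (oddCore_le hH hE) PCore.odd_card_oddCore, ?_,
    exists_kleinFour_quotient hE _ PCore.odd_card_oddCore⟩
  set π := QuotientGroup.mk' (Cfsg.oddCore G)
  set K := (H.map π).normalCore
  have hK : K.comap π ≤ Cfsg.oddCore G := by
    haveI : (K.comap π).Normal := (normalCore_normal _).comap π
    exact le_trans (Subgroup.normal_le_normalCore.2 fun x hx =>
      (mem_map_mk'_iff (oddCore_le hH hE)).1 (normalCore_le _ hx)) (normalCore_eq hH hE).le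
  rw [eq_bot_iff]
  intro q hq
  obtain ⟨x, rfl⟩ := QuotientGroup.mk'_surjective (Cfsg.oddCore G) q
  exact (QuotientGroup.eq_one_iff x).2 (hK hq)

/-! ### The reductions -/

/-- The dichotomy follows from two-transitivity in the faithful case with a four-group. -/
theorem dichotomy_of_faithful
    (h : ∀ (G' : Type u) [Group G'] [Finite G'] (K : Subgroup G'), Cfsg.IsStronglyEmbedded K →
      K.normalCore = ⊥ → (∃ E : Subgroup G', IsKleinFour E) → TwoTrans K)
    (hH : Cfsg.IsStronglyEmbedded H) :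
    TwoTrans H ∨ ((∀ S : Sylow 2 G, IsCyclic S ∨ ∃ m : ℕ, 1 ≤ m ∧
      Nonempty ((S : Subgroup G) ≃* QuaternionGroup (2 ^ m))) ∧ Cfsg.oddCore G ⊔ H = ⊤) := by
  by_cases hr : ∃ E : Subgroup G, IsKleinFour E
  · left
    obtain ⟨E, hE⟩ := hr
    obtain ⟨h1, h2, h3⟩ := faithful_quotient hH hE
    have hO := oddCore_le hH hE
    intro g₁ g₂ hg₁ hg₂
    obtain ⟨q, hq, hq'⟩ := h _ _ h1 h2 h3 (QuotientGroup.mk' _ g₁) (QuotientGroup.mk' _ g₂)
      (fun hh => hg₁ ((mem_map_mk'_iff hO).1 hh)) (fun hh => hg₂ ((mem_map_mk'_iff hO).1 hh))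
    obtain ⟨k, hk, rfl⟩ := hq
    refine ⟨k, hk, (mem_map_mk'_iff hO).1 ?_⟩
    rw [map_mul, map_mul, map_inv]
    exact hq'
  · right
    push Not at hr
    exact ⟨sylow_shape hr, oddCore_sup_eq_top hH hr⟩

/-- `O(H) ≤ O(G)` follows from `O(H) = 1` in the faithful case with a four-group. -/
theorem oddCore_le_of_faithful
    (h : ∀ (G' : Type u) [Group G'] [Finite G'] (K : Subgroup G'), Cfsg.IsStronglyEmbedded K →
      K.normalCore = ⊥ → (∃ E : Subgroup G', IsKleinFour E) → Cfsg.oddCore ↥K = ⊥)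
    (hH : Cfsg.IsStronglyEmbedded H) : (Cfsg.oddCore ↥H).map H.subtype ≤ Cfsg.oddCore G := by
  by_cases hr : ∃ E : Subgroup G, IsKleinFour E
  · obtain ⟨E, hE⟩ := hr
    obtain ⟨h1, h2, h3⟩ := faithful_quotient hH hE
    have hbot := h _ _ h1 h2 h3
    set π := QuotientGroup.mk' (Cfsg.oddCore G)
    let φ := π.subgroupMap H
    haveI : ((Cfsg.oddCore ↥H).map φ).Normal :=
      Subgroup.Normal.map inferInstance φ (π.subgroupMap_surjective H)
    have hle : (Cfsg.oddCore ↥H).map φ ≤ ⊥ :=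
      le_trans (PCore.le_oddCore (Odd.of_dvd_nat (PCore.odd_card_oddCore (G := ↥H))
        (Subgroup.card_dvd_of_surjective (φ.subgroupMap (Cfsg.oddCore ↥H))
          (φ.subgroupMap_surjective _)))) hbot.le
    rintro _ ⟨x, hx, rfl⟩
    have h1' : φ x = 1 := Subgroup.mem_bot.1 (hle (mem_map_of_mem φ hx))
    exact (QuotientGroup.eq_one_iff (x : G)).1 (congrArg Subtype.val h1')
  · push Not at hr
    exact oddCore_le_of_sup_eq_top (oddCore_sup_eq_top hH hr)

end Cfsg.Agent.Bender
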